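import Groth.Agent.GeomRedFibLib.SplitClosed
import Mathlib.RingTheory.Support
import Mathlib.RingTheory.Artinian.Ring
import Mathlib.RingTheory.HopkinsLevitzki
import Mathlib.RingTheory.KrullDimension.NonZeroDivisors
import Mathlib.RingTheory.Ideal.MinimalPrime.Localization
import Mathlib.RingTheory.Localization.FractionRing
import Mathlib.RingTheory.IntegralClosure.IntegrallyClosed

/-! Openness of the normal locus when the normalization is finite. -/

set_option autoImplicit false
set_option linter.style.haveILetI false
set_option maxHeartbeats 1000000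
universe u

open EGA4 IsLocalRing Polynomial

namespace NorLocLib

open scoped nonZeroDivisors in
theorem isArtinianRing_fractionRing (A : Type u) [CommRing A] [IsNoetherianRing A] [IsReduced A] :
    IsArtinianRing (FractionRing A) := by
  haveI : IsNoetherianRing (FractionRing A) := IsLocalization.isNoetherianRing A⁰ _ inferInstance
  rw [isArtinianRing_iff_krullDimLE_zero, Ring.krullDimLE_zero_iff]
  intro P hP
  have hmin : ∀ (p : Ideal A) [p.IsPrime], Disjoint (A⁰ : Set A) p → p ∈ minimalPrimes A := by
    intro p _ hd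
    have hsub : (p : Set A) ⊆ ⋃ q ∈ (minimalPrimes.finite_of_isNoetherianRing A).toFinset, (q : Set A) := by
      intro x hx
      have hnd : x ∉ A⁰ := fun h => Set.disjoint_left.1 hd h hx
      rw [mem_nonZeroDivisors_iff_right] at hnd
      push Not at hnd
      obtain ⟨y, hxy, hy⟩ := hnd
      have hy' : y ∉ sInf (minimalPrimes A) := by
        rw [show sInf (minimalPrimes A) = nilradical A by
          rw [nilradical, ← Ideal.sInf_minimalPrimes]; rfl, nilradical_eq_zero]
        simpa using hy
      rw [Submodule.mem_sInf] at hy'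
      push Not at hy'
      obtain ⟨q, hq, hyq⟩ := hy'
      simp only [Set.mem_iUnion, Set.Finite.mem_toFinset]
      exact ⟨q, hq, (hq.1.1.mem_or_mem (show y * x ∈ q by rw [hxy]; exact q.zero_mem)).resolve_left hyq⟩
    obtain ⟨q, hq, hpq⟩ := (Ideal.subset_union_prime (s := (minimalPrimes.finite_of_isNoetherianRing A).toFinset)
      (f := id) ⊥ ⊥ fun q hq _ _ => ((Set.Finite.mem_toFinset _).1 hq).1.1).1 hsub
    rw [Set.Finite.mem_toFinset] at hq
    obtain rfl : p = q := le_antisymm hpq (hq.2 ⟨inferInstance, bot_le⟩ hpq)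
    exact hq
  obtain ⟨M, hM, hPM⟩ := Ideal.exists_le_maximal P hP.ne_top
  obtain rfl : P = M := by
    have hd : ∀ (Q : Ideal (FractionRing A)), Q.IsPrime → Disjoint (A⁰ : Set A) (Q.under A : Ideal A) :=
      fun Q hQ => (IsLocalization.isPrime_iff_isPrime_disjoint A⁰ (FractionRing A) Q).1 hQ |>.2
    haveI := hM.isPrime
    have h1 := hmin (M.under A) (hd M hM.isPrime)
    have h2 : P.under A = M.under A := le_antisymm (Ideal.comap_mono hPM)
      (h1.2 ⟨inferInstance, bot_le⟩ (Ideal.comap_mono hPM))
    have h3 := congrArg (Ideal.map (algebraMap A (FractionRing A))) h2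
    exact (IsLocalization.map_under A⁰ _ P).symm.trans (h3.trans (IsLocalization.map_under A⁰ _ M))
  exact hM

theorem isNormalRing_of_reduced_artinian (Q : Type u) [CommRing Q] [IsArtinianRing Q] [IsReduced Q] :
    IsNormalRing Q := fun p _ => by
  haveI : IsArtinianRing (Localization.AtPrime p) :=
    IsArtinianRing.localization_artinian p.primeCompl (Localization.AtPrime p)
  haveI : _root_.IsReduced (Localization.AtPrime p) :=
    isReduced_localizationPreserves p.primeCompl (Localization.AtPrime p) inferInstance
  letI := (IsArtinianRing.isField_of_isReduced_of_isLocalRing (Localization.AtPrime p)).toField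
  exact ⟨inferInstance, inferInstance⟩

theorem eq_zero_or_one_of_isLocalRing (T : Type u) [CommRing T] [IsLocalRing T] (z : T) (hz : IsIdempotentElem z) :
    z = 0 ∨ z = 1 := by
  rcases IsLocalRing.isUnit_or_isUnit_one_sub_self z with h | h
  · right; exact IsUnit.mul_left_cancel h (by rw [hz.eq, mul_one])
  · left; exact h.mul_right_eq_zero.1 (by rw [sub_mul, one_mul, hz.eq, sub_self])

variable {A Q : Type u} [CommRing A] [CommRing Q] [Algebra A Q] [IsReduced Q]

/-- The integral closure in a split closed ring is split closed. -/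
theorem splitClosed_integralClosure (hQ : GeomRedFibLib.SplitClosed Q) :
    GeomRedFibLib.SplitClosed (integralClosure A Q) := by
  have hid : ∀ e : Q, IsIdempotentElem e → IsIntegral A e := fun e he =>
    ⟨X * (X - C 1), monic_X.mul (monic_X_sub_C 1), by simp [mul_sub, he.eq]⟩
  refine ⟨fun x y hxy => ?_, fun x y f hf hfx => ?_⟩
  · obtain ⟨e, he, hey, hex⟩ := hQ.1 x.1 y.1 (congrArg Subtype.val hxy)
    exact ⟨⟨e, hid e he⟩, Subtype.ext he, Subtype.ext hey, Subtype.ext hex⟩
  · rcases subsingleton_or_nontrivial Q with hsub | hnt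
    · exact ⟨0, 0, Subtype.ext (Subsingleton.elim _ _), Subtype.ext (Subsingleton.elim _ _),
        Subtype.ext (Subsingleton.elim _ _)⟩
    let g := (integralClosure A Q).val.toRingHom
    have hfx' : (((f.map g)).scaleRoots y.1).eval x.1 = 0 := by
      have h := congrArg g hfx
      rw [map_zero, ← eval₂_at_apply, ← eval_map, map_scaleRoots _ _ _ (by simp [hf.leadingCoeff])] at h
      exact h
    obtain ⟨e, z, he, hey, hex⟩ := hQ.2 x.1 y.1 (f.map g) (hf.map g) hfx'
    have h1 : y.1 * (f.map g).eval z = 0 := by
      refine IsReduced.eq_zero _ ⟨(f.map g).natDegree + 1, ?_⟩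
      have h2 : e * ((f.map g).scaleRoots y.1).eval (z * y.1) = 0 := by
        have hsub : z * y.1 - x.1 ∣ ((f.map g).scaleRoots y.1).eval (z * y.1) -
            ((f.map g).scaleRoots y.1).eval x.1 := sub_dvd_eval_sub _ _ _
        obtain ⟨c, hc⟩ := hsub
        rw [hfx', sub_zero] at hc
        rw [hc, ← hex]
        linear_combination (x.1 * c) * he.eq
      have h3 := Polynomial.scaleRoots_eval₂_mul (p := f.map g) (RingHom.id Q) z y.1
      rw [RingHom.id_apply, eval₂_id, eval₂_id] at h3
      rw [mul_comm z, h3] at h2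
      calc (y.1 * (f.map g).eval z) ^ ((f.map g).natDegree + 1)
          = (y.1 * (f.map g).eval z) * (y.1 ^ (f.map g).natDegree * ((f.map g).eval z) ^ (f.map g).natDegree) := by ring
        _ = (f.map g).eval z ^ (f.map g).natDegree * (e * y.1 * (y.1 ^ (f.map g).natDegree * (f.map g).eval z)) := by
            rw [hey]; ring
        _ = 0 := by rw [show e * y.1 * (y.1 ^ (f.map g).natDegree * (f.map g).eval z) =
            y.1 * (e * (y.1 ^ (f.map g).natDegree * (f.map g).eval z)) by ring, h2, mul_zero, mul_zero]
    obtain ⟨e', he', hey', hez'⟩ := hQ.1 ((f.map g).eval z) y.1 (by rw [mul_comm]; exact h1)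
    have hint : IsIntegral (integralClosure A Q) (e' * z) := by
      refine ⟨X * f, monic_X.mul hf, ?_⟩
      rw [eval₂_mul, eval₂_X, ← eval_map]
      have hsub : e' * z - z ∣ (f.map g).eval (e' * z) - (f.map g).eval z := sub_dvd_eval_sub _ _ _
      obtain ⟨c, hc⟩ := hsub
      show e' * z * (f.map g).eval (e' * z) = 0
      rw [eq_add_of_sub_eq hc]
      linear_combination (z * c * z) * he'.eq + z * hez'
    refine ⟨⟨e, hid e he⟩, ⟨e' * z, isIntegral_trans _ hint⟩, Subtype.ext he, Subtype.ext hey, Subtype.ext ?_⟩
    show e * x.1 = e' * z * y.1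
    rw [hex, mul_right_comm, hey', mul_comm]

variable (A)

omit [IsReduced Q] in
theorem exists_smul_mem_range (p : Ideal A) [p.IsPrime] [IsFractionRing A Q] (R K : Type u) [CommRing R]
    [Algebra A R] [IsLocalization.AtPrime R p] [IsDomain R] [IsIntegrallyClosed R] [Field K] [Algebra R K]
    [IsFractionRing R K] (x : integralClosure A Q) :
    ∃ s : A, s ∉ p ∧ ∃ b : A, algebraMap A (integralClosure A Q) b = s • x := by
  obtain ⟨⟨a, t⟩, hat⟩ := IsLocalization.surj (nonZeroDivisors A) x.1
  let g := algebraMap A R
  let h := (algebraMap R K).comp g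
  have ht : ∀ s : nonZeroDivisors A, IsUnit (h s) := fun s => isUnit_iff_ne_zero.2 fun h0 => by
    have h0' : g s = 0 := IsFractionRing.injective R K (h0.trans (map_zero _).symm)
    obtain ⟨c, hc⟩ := (IsLocalization.map_eq_zero_iff p.primeCompl R (s : A)).1 h0'
    exact c.2 (by rw [(mul_right_mem_nonZeroDivisors_eq_zero_iff s.2).1 hc]; exact zero_mem _)
  let φ : Q →+* K := IsLocalization.lift ht
  have hφ : IsIntegral R (φ x.1) := by
    obtain ⟨P, hP, hPx⟩ := x.2
    refine ⟨P.map g, hP.map g, ?_⟩
    rw [eval₂_map, show (algebraMap R K).comp g = φ.comp (algebraMap A Q) from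
      RingHom.ext fun r => (IsLocalization.lift_eq ht r).symm, ← hom_eval₂, hPx, map_zero]
  obtain ⟨r, hr⟩ := IsIntegrallyClosed.isIntegral_iff.1 hφ
  obtain ⟨⟨b, s⟩, hbs⟩ := IsLocalization.surj p.primeCompl r
  have hb : g (s * a) = g (b * t) := by
    refine IsFractionRing.injective R K ?_
    show h ((s : A) * a) = h (b * t)
    have h1 : φ x.1 * h t = h a := by
      have := congrArg φ hat
      rwa [map_mul, IsLocalization.lift_eq, IsLocalization.lift_eq] at this
    have h2 : φ x.1 * h s = h b := by
      have := congrArg (algebraMap R K) hbs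
      rw [map_mul, hr] at this
      exact this
    rw [map_mul, map_mul, ← h1, ← h2]
    ring
  obtain ⟨c, hc⟩ := IsLocalization.exists_of_eq (M := p.primeCompl) (S := R) hb
  refine ⟨c * s, p.primeCompl.mul_mem c.2 s.2, c * b, Subtype.ext ?_⟩
  show algebraMap A Q ((c : A) * b) = ((c : A) * s) • x.1
  refine (IsLocalization.map_units Q t).mul_right_cancel ?_
  rw [Algebra.smul_def, mul_assoc, hat, ← map_mul, ← map_mul]
  exact congrArg _ (by linear_combination -hc)

/-- The normal locus is the set of primes at which the normalization has nothing new. -/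
theorem mem_norLocus_iff [IsNoetherianRing A] [IsReduced A] (p : PrimeSpectrum A) :
    p ∈ norLocus A ↔ ∀ x : integralClosure A (FractionRing A), ∃ s : A, s ∉ p.asIdeal ∧
      ∃ b : A, algebraMap A (integralClosure A (FractionRing A)) b = s • x := by
  let M := p.asIdeal.primeCompl
  constructor
  · rintro ⟨hdom, hint⟩ x
    haveI := hdom
    haveI := hint
    exact exists_smul_mem_range A p.asIdeal (Localization.AtPrime p.asIdeal)
      (FractionRing (Localization.AtPrime p.asIdeal)) x
  · intro hp
    haveI := isArtinianRing_fractionRing A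
    have hsc := splitClosed_integralClosure (A := A)
      (GeomRedFibLib.splitClosed_of_isNormalRing (FractionRing A) (isNormalRing_of_reduced_artinian _))
    let C := integralClosure A (FractionRing A)
    let R := Localization.AtPrime p.asIdeal
    let T := Localization (Algebra.algebraMapSubmonoid C M)
    let φ : R →+* T := IsLocalization.lift (M := M) (g := (algebraMap C T).comp (algebraMap A C))
      fun m => IsLocalization.map_units T (⟨_, Algebra.mem_algebraMapSubmonoid_of_mem m⟩ : Algebra.algebraMapSubmonoid C M)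
    have hφ : ∀ a : A, φ (algebraMap A R a) = algebraMap C T (algebraMap A C a) := fun a => IsLocalization.lift_eq _ a
    have hinjA : Function.Injective (algebraMap A C) := fun a b hab =>
      IsFractionRing.injective A (FractionRing A) (congrArg Subtype.val hab)
    have hbij : Function.Bijective φ := by
      refine ⟨(injective_iff_map_eq_zero φ).2 fun z hz => ?_, fun z => ?_⟩
      · obtain ⟨⟨a, s⟩, has⟩ := IsLocalization.surj M z
        have h0 : algebraMap C T (algebraMap A C a) = 0 := by rw [← hφ, ← has, map_mul, hz, zero_mul]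
        obtain ⟨⟨c, ⟨m, hm, rfl⟩⟩, hc⟩ := (IsLocalization.map_eq_zero_iff (Algebra.algebraMapSubmonoid C M) T _).1 h0
        have hma : m * a = 0 := hinjA (by rw [map_mul, map_zero]; exact hc)
        have hga : algebraMap A R a = 0 :=
          (IsLocalization.map_eq_zero_iff M R a).2 ⟨⟨m, hm⟩, hma⟩
        rw [hga] at has
        exact (IsLocalization.map_units R s).mul_left_eq_zero.1 has
      · obtain ⟨⟨x, ⟨c, ⟨m, hm, rfl⟩⟩⟩, hx⟩ := IsLocalization.surj (Algebra.algebraMapSubmonoid C M) z
        obtain ⟨s, hs, b, hb⟩ := hp x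
        refine ⟨IsLocalization.mk' R b (⟨m, hm⟩ * ⟨s, hs⟩ : M), ?_⟩
        have hunit : IsUnit (algebraMap C T (algebraMap A C (m * s))) :=
          IsLocalization.map_units T (⟨_, Algebra.mem_algebraMapSubmonoid_of_mem (⟨m * s, M.mul_mem hm hs⟩ : M)⟩ : Algebra.algebraMapSubmonoid C M)
        refine hunit.mul_right_cancel ?_
        conv_lhs => rw [← hφ, ← map_mul]
        erw [IsLocalization.mk'_spec]
        rw [hφ, hb, Algebra.smul_def, map_mul, map_mul, map_mul, ← mul_assoc, hx]
        exact mul_comm _ _
    let e := RingEquiv.ofBijective φ hbij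
    haveI : Nontrivial T := e.symm.toEquiv.nontrivial
    haveI : IsLocalRing T := e.isLocalRing
    obtain ⟨h1, h2⟩ := hsc.isDomain_and_isIntegrallyClosed (Algebra.algebraMapSubmonoid C M) T
      (eq_zero_or_one_of_isLocalRing T)
    haveI := h1
    haveI := h2
    exact ⟨e.toMulEquiv.isDomain _, IsIntegrallyClosed.of_equiv e.symm⟩

/-- A finite normalization makes the normal locus open. -/
theorem isOpen_norLocus_of_finite [IsNoetherianRing A] [IsReduced A]
    (h : Module.Finite A (integralClosure A (FractionRing A))) : IsOpen (norLocus A) := by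
  haveI := h
  let N := (integralClosure A (FractionRing A)) ⧸ LinearMap.range (Algebra.linearMap A (integralClosure A (FractionRing A)))
  have : norLocus A = (Module.support A N)ᶜ := by
    ext p
    rw [mem_norLocus_iff, Set.mem_compl_iff, Module.notMem_support_iff']
    constructor
    · intro hp z
      obtain ⟨x, rfl⟩ := Submodule.Quotient.mk_surjective _ z
      obtain ⟨s, hs, b, hb⟩ := hp x
      exact ⟨s, hs, by rw [← Submodule.Quotient.mk_smul, Submodule.Quotient.mk_eq_zero]; exact ⟨b, hb⟩⟩
    · intro hp x
      obtain ⟨s, hs, hx⟩ := hp (Submodule.Quotient.mk x)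
      rw [← Submodule.Quotient.mk_smul, Submodule.Quotient.mk_eq_zero] at hx
      obtain ⟨b, hb⟩ := hx
      exact ⟨s, hs, b, hb⟩
  rw [this]
  exact Module.isClosed_support.isOpen_compl

end NorLocLib
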