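import Groth.Agent.NorLocLib.Basic
import Mathlib.RingTheory.Smooth.NoetherianDescent
import Mathlib.RingTheory.Flat.FaithfullyFlat.Algebra

/-! Normality is smooth local. -/

set_option autoImplicit false
set_option linter.style.haveILetI false
set_option maxHeartbeats 1000000
universe u

open EGA4 TensorProduct IsLocalRing

namespace NorLocLib

/-- A smooth algebra over a normal ring is normal. -/
theorem isNormalRing_of_smooth_general (A B : Type u) [CommRing A] [CommRing B] [Algebra A B]
    [Algebra.Smooth A B] (hA : IsNormalRing A) : IsNormalRing B := by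
  obtain ⟨A₀, B₀, _, _, _, _, _, _, hft, hs, ⟨e⟩⟩ := Algebra.Smooth.exists_finiteType ℤ A B
  haveI := hs
  haveI := hft
  haveI : IsNoetherianRing A₀ := Algebra.FiniteType.isNoetherianRing ℤ A₀
  haveI : IsNoetherianRing B₀ := Algebra.FiniteType.isNoetherianRing A₀ B₀
  exact GeomRedFibLib.isNormalRing_of_ringEquiv _ _
    ((Algebra.TensorProduct.comm A₀ B₀ A).toRingEquiv.trans e.symm.toRingEquiv)
    (GeomRedFibLib.isNormalRing_bc A₀ B₀ (isNormalHom_of_smooth A₀ B₀) A hA)

theorem mem_range_of_isIntegral (R S F K : Type u) [CommRing R] [CommRing S] [IsDomain S] [Algebra R S]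
    [Module.FaithfullyFlat R S] [IsIntegrallyClosed S] [Field F] [Algebra R F] [IsFractionRing R F]
    [Field K] [Algebra S K] [IsFractionRing S K] (φ : F →+* K)
    (hφ : (algebraMap S K).comp (algebraMap R S) = φ.comp (algebraMap R F)) (a b : R)
    (hb : algebraMap R F b ≠ 0) (hx : IsIntegral R (algebraMap R F a / algebraMap R F b)) :
    ∃ r : R, algebraMap R F r = algebraMap R F a / algebraMap R F b := by
  have hint : IsIntegral S (φ (algebraMap R F a / algebraMap R F b)) := by
    obtain ⟨P, hP, hPx⟩ := hx
    refine ⟨P.map (algebraMap R S), hP.map _, ?_⟩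
    rw [Polynomial.eval₂_map, hφ, ← Polynomial.hom_eval₂, hPx, map_zero]
  obtain ⟨s, hs⟩ := IsIntegrallyClosed.isIntegral_iff.1 hint
  have he : ∀ r, φ (algebraMap R F r) = algebraMap S K (algebraMap R S r) := fun r =>
    (RingHom.congr_fun hφ r).symm
  rw [map_div₀, he, he] at hs
  have hbK : algebraMap S K (algebraMap R S b) ≠ 0 := by
    rw [← he]
    exact (map_ne_zero φ).2 hb
  have hsb : s * algebraMap R S b = algebraMap R S a := by
    refine IsFractionRing.injective S K ?_
    rw [map_mul, hs]
    exact div_mul_cancel₀ _ hbK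
  have hmem : a ∈ (Ideal.map (algebraMap R S) (Ideal.span {b})).comap (algebraMap R S) := by
    rw [Ideal.mem_comap, ← hsb, mul_comm]
    exact Ideal.mul_mem_right _ _ (Ideal.mem_map_of_mem _ (Ideal.mem_span_singleton_self b))
  rw [Ideal.comap_map_eq_self_of_faithfullyFlat, Ideal.mem_span_singleton'] at hmem
  obtain ⟨r, hr⟩ := hmem
  refine ⟨r, ?_⟩
  rw [eq_div_iff hb, ← map_mul, hr]

theorem isIntegrallyClosed_of_ff (R S F K : Type u) [CommRing R] [IsDomain R] [CommRing S] [IsDomain S]
    [Algebra R S] [Module.FaithfullyFlat R S] [IsIntegrallyClosed S] [Field F] [Algebra R F] [IsFractionRing R F]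
    [Field K] [Algebra S K] [IsFractionRing S K] : IsIntegrallyClosed R := by
  refine (isIntegrallyClosed_iff F).2 fun {x} hx => ?_
  obtain ⟨a, b, hb, rfl⟩ := IsFractionRing.div_surjective R x
  have hg : Function.Injective ((algebraMap S K).comp (algebraMap R S)) :=
    (IsFractionRing.injective S K).comp (FaithfulSMul.algebraMap_injective R S)
  exact mem_range_of_isIntegral R S F K (IsFractionRing.lift hg)
    (RingHom.ext fun r => (IsFractionRing.lift_algebraMap hg r).symm) a b
    ((map_ne_zero_iff _ (IsFractionRing.injective R F)).2 (nonZeroDivisors.ne_zero hb)) hx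

/-- Integral closedness descends along faithfully flat maps. -/
theorem isDomain_isIntegrallyClosed_of_faithfullyFlat (R S : Type u) [CommRing R] [CommRing S] [Algebra R S]
    [Module.FaithfullyFlat R S] [IsDomain S] [IsIntegrallyClosed S] : IsDomain R ∧ IsIntegrallyClosed R := by
  haveI : IsDomain R := (FaithfulSMul.algebraMap_injective R S).isDomain _
  exact ⟨inferInstance, isIntegrallyClosed_of_ff R S (FractionRing R) (FractionRing S)⟩

/-- Normality descends along faithfully flat ring maps. -/
theorem isNormalRing_of_faithfullyFlat_general (A B : Type u) [CommRing A] [CommRing B] [Algebra A B]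
    [Module.FaithfullyFlat A B] (hB : IsNormalRing B) : IsNormalRing A := fun p hp => by
  obtain ⟨⟨q, hq⟩, h⟩ := PrimeSpectrum.comap_surjective_of_faithfullyFlat (A := A) (B := B) ⟨p, hp⟩
  haveI : q.LiesOver p := ⟨(congrArg PrimeSpectrum.asIdeal h).symm⟩
  letI := Localization.AtPrime.algebraOfLiesOver p q
  haveI : IsLocalHom (algebraMap (Localization.AtPrime p) (Localization.AtPrime q)) :=
    inferInstanceAs (IsLocalHom (Localization.localRingHom p q (algebraMap A B) (q.over_def p)))
  haveI : Module.Flat (Localization.AtPrime p) (Localization.AtPrime q) :=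
    RingHom.flat_algebraMap_iff.mp <| RingHom.Flat.localRingHom (RingHom.flat_algebraMap_iff.mpr inferInstance) ..
  haveI : Module.FaithfullyFlat (Localization.AtPrime p) (Localization.AtPrime q) :=
    Module.FaithfullyFlat.of_flat_of_isLocalHom
  haveI := (hB q).1
  haveI := (hB q).2
  exact isDomain_isIntegrallyClosed_of_faithfullyFlat _ (Localization.AtPrime q)

end NorLocLib
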