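import Groth.Agent.NorLocLib.Basic
import Groth.Agent.GeomRedFibLib.NormalBC
import Groth.Agent.NormalLib.CompletionTensor
import Groth.Agent.CommAlgDim.LocPD
import Groth.Agent.S0599
import Groth.Agent.S0600
import Groth.Agent.S5785
import Groth.Agent.AdicRingLib.Completion

/-! Completions of localisations of excellent normal rings. -/

set_option autoImplicit false
set_option linter.style.haveILetI false
universe u

open EGA4 TensorProduct

namespace NorLocLib

theorem isNormalHom_of_isRegularHom (A B : Type u) [CommRing A] [CommRing B] [Algebra A B]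
    (h : CAlg.IsRegularHom A B) : IsNormalHom A B := by
  refine ⟨h.1, fun p _ k' _ _ hk => ?_⟩
  haveI : IsRegularRing (k' ⊗[p.ResidueField] p.Fiber B) := (h.2 p).2 k' hk
  exact isNormalRing_of_isRegularRing _

theorem isNormalRing_adicCompletion_of_isGRing (A : Type u) [CommRing A] [IsNoetherianRing A]
    (hG : CAlg.IsGRing A) (hA : IsNormalRing A) (I : Ideal A) : IsNormalRing (AdicCompletion I A) := by
  haveI : IsNoetherianRing (AdicCompletion I A) := AdicRingLib.isNoetherianRing_adicCompletion I
  exact GeomRedFibLib.isNormalRing_of_ringEquiv _ _ (Algebra.TensorProduct.rid A A (AdicCompletion I A)).toRingEquiv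
    (GeomRedFibLib.isNormalRing_bc A (AdicCompletion I A)
      (isNormalHom_of_isRegularHom A _ (Groth.Agent.S0600.result A hG I)) A hA)

theorem exists_regular_surjective_completion (R T : Type u) [CommRing R] [IsRegularRing R] [CommRing T]
    (φ : R →+* T) (hφ : Function.Surjective φ) (K : Ideal T) :
    ∃ (R' : Type u) (_ : CommRing R') (_ : IsRegularRing R') (ψ : R' →+* AdicCompletion K T),
      Function.Surjective ψ := by
  letI := φ.toAlgebra
  haveI : Module.Finite R T := Module.Finite.of_surjective (Algebra.linearMap R T) hφ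
  obtain ⟨J, rfl⟩ : ∃ J : Ideal R, K = J.map (algebraMap R T) :=
    ⟨K.comap φ, (Ideal.map_comap_of_surjective φ hφ K).symm⟩
  obtain ⟨e, -⟩ := NormalLib.exists_ringEquiv_completion_tensor J T
  refine ⟨AdicCompletion J R, inferInstance, Groth.Agent.S5785.result R J,
    e.symm.toRingHom.comp (Algebra.TensorProduct.includeLeftRingHom), ?_⟩
  refine e.symm.surjective.comp fun z => ?_
  induction z using TensorProduct.induction_on with
  | zero => exact ⟨0, map_zero _⟩
  | tmul c t =>
    obtain ⟨r, rfl⟩ := hφ t
    refine ⟨r • c, ?_⟩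
    show (r • c) ⊗ₜ[R] (1 : T) = c ⊗ₜ[R] φ r
    rw [TensorProduct.smul_tmul, Algebra.smul_def, mul_one]
    rfl
  | add x y hx hy =>
    obtain ⟨a, ha⟩ := hx; obtain ⟨b, hb⟩ := hy
    exact ⟨a + b, by rw [map_add, ha, hb]⟩

theorem exists_regular_surjective_away (R A : Type u) [CommRing R] [IsRegularRing R] [CommRing A]
    (φ : R →+* A) (hφ : Function.Surjective φ) (f : A) :
    ∃ (R' : Type u) (_ : CommRing R') (_ : IsRegularRing R') (ψ : R' →+* Localization.Away f),
      Function.Surjective ψ := by
  obtain ⟨g, rfl⟩ := hφ f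
  refine ⟨Localization.Away g, inferInstance, CommAlgDim.isRegularRing_localization _, Localization.awayMap φ g, ?_⟩
  intro z
  obtain ⟨⟨a, ⟨_, n, rfl⟩⟩, hz⟩ := IsLocalization.surj (Submonoid.powers (φ g)) z
  obtain ⟨r, rfl⟩ := hφ a
  refine ⟨IsLocalization.mk' _ r (⟨g ^ n, n, rfl⟩ : Submonoid.powers g), ?_⟩
  rw [Localization.awayMap, IsLocalization.Away.map, IsLocalization.map_mk', eq_comm,
    IsLocalization.eq_mk'_iff_mul_eq]
  simpa [map_pow] using hz

theorem excellent_normal_away_completion (A : Type u) [CommRing A] [IsDomain A] [IsIntegrallyClosed A]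
    (hexc : IsExcellent A)
    (hreg : ∃ (R : Type u) (_ : CommRing R) (_ : IsRegularRing R) (φ : R →+* A), Function.Surjective φ)
    (I : Ideal A) (f : A) :
    IsNormalRing (AdicCompletion (I.map (algebraMap A (Localization.Away f))) (Localization.Away f)) ∧
      ∃ (R' : Type u) (_ : CommRing R') (_ : IsRegularRing R')
        (ψ : R' →+* AdicCompletion (I.map (algebraMap A (Localization.Away f))) (Localization.Away f)),
        Function.Surjective ψ := by
  haveI := hexc.1
  haveI : IsNoetherianRing (Localization.Away f) := IsLocalization.isNoetherianRing (Submonoid.powers f) _ hexc.1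
  haveI : Algebra.FiniteType A (Localization.Away f) := IsLocalization.finiteType_of_monoid_fg (Submonoid.powers f) _
  refine ⟨isNormalRing_adicCompletion_of_isGRing _ (Groth.Agent.S0599.result A hexc.2.2.1 _)
    (isNormalRing_of_smooth A _ (fun p _ => ⟨IsLocalization.isDomain_localization p.primeCompl_le_nonZeroDivisors,
      isIntegrallyClosed_of_isLocalization _ p.primeCompl p.primeCompl_le_nonZeroDivisors⟩)) _, ?_⟩
  obtain ⟨R, _, _, φ, hφ⟩ := hreg
  obtain ⟨R₁, _, _, φ₁, hφ₁⟩ := exists_regular_surjective_away R A φ hφ f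
  exact exists_regular_surjective_completion R₁ _ φ₁ hφ₁ _

end NorLocLib
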