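import Groth.Agent.NorLocLib.SmoothLocal
import Groth.Agent.GeomRedFibLib.NormalBC
import Groth.Agent.GeomRedFibLib.SplitClosed
import Groth.Agent.AdicRingLib.Completion
import Groth.Agent.SchFinLib.Conn
import Mathlib.RingTheory.AdicCompletion.AsTensorProduct
import Mathlib.RingTheory.Localization.BaseChange
import Mathlib.RingTheory.Henselian

/-! Normality and connectedness of adic completions. -/

set_option autoImplicit false
set_option linter.style.haveILetI false
set_option maxHeartbeats 1000000
universe u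

open EGA4 TensorProduct

namespace NorLocLib

theorem domain_of_isNormalRing_of_trivIdem (R : Type u) [CommRing R] [IsNoetherianRing R] [Nontrivial R]
    (hR : IsNormalRing R) (h : ∀ e : R, IsIdempotentElem e → e = 0 ∨ e = 1) : IsDomain R ∧ IsIntegrallyClosed R := by
  haveI : IsLocalization (⊥ : Submonoid R) R :=
    IsLocalization.of_le_isUnit fun x hx => by rw [Submonoid.mem_bot] at hx; rw [hx]; exact isUnit_one
  exact (GeomRedFibLib.splitClosed_of_isNormalRing R hR).isDomain_and_isIntegrallyClosed ⊥ R h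

theorem isNormalRing_of_intClosed (R : Type u) [CommRing R] [IsDomain R] [IsIntegrallyClosed R] : IsNormalRing R :=
  fun q _ => ⟨IsLocalization.isDomain_localization q.primeCompl_le_nonZeroDivisors,
    isIntegrallyClosed_of_isLocalization _ q.primeCompl q.primeCompl_le_nonZeroDivisors⟩

theorem isDomain_intClosed_adicCompletion_iff (A : Type u) [CommRing A] [IsNoetherianRing A] (J : Ideal A)
    (hJ : J ≠ ⊤) (hf : IsNormalHom A (AdicCompletion J A)) (T : Submonoid A)
    (hT : T = MonoidHom.mker (Ideal.Quotient.mk J)) :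
    (IsDomain (AdicCompletion J A) ∧ IsIntegrallyClosed (AdicCompletion J A)) ↔
      ((IsDomain (Localization T) ∧ IsIntegrallyClosed (Localization T)) ∧ ConnectedSpace (PrimeSpectrum (A ⧸ J))) := by
  haveI := hf.1
  haveI := AdicRingLib.isNoetherianRing_adicCompletion J
  haveI hcpl := AdicRingLib.isAdicComplete_map (C := A) (IsNoetherian.noetherian J)
  let Ah := AdicCompletion J A
  let L := Localization T
  let ev := (AdicCompletion.evalOneₐ J).toRingHom
  have hev : ev.comp (algebraMap A Ah) = Ideal.Quotient.mk J := AdicCompletion.evalOneₐ_comp_algebraMap_eq_mk J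
  have hmem : ∀ t, t ∈ T ↔ t - 1 ∈ J := fun t ↦ by
    rw [hT, MonoidHom.mem_mker]
    show Ideal.Quotient.mk J t = 1 ↔ _
    rw [← map_one (Ideal.Quotient.mk J), Ideal.Quotient.eq]
  haveI : HenselianRing Ah (J.map (algebraMap A Ah)) := inferInstance
  have hker : RingHom.ker ev = J.map (algebraMap A Ah) := by
    refine le_antisymm (fun x hx => ?_) (Ideal.map_le_iff_le_comap.2 fun a ha => ?_)
    · obtain ⟨c, hc⟩ := AdicRingLib.exists_sub_mem_map_pow (IsNoetherian.noetherian J) 1 x
      rw [pow_one] at hc
      have hc0 : ev (x - algebraMap A Ah c) = 0 := by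
        refine (Ideal.map_le_iff_le_comap.2 (fun a ha => ?_) : J.map (algebraMap A Ah) ≤ RingHom.ker ev) hc
        rw [Ideal.mem_comap, RingHom.mem_ker, ← RingHom.comp_apply, hev]
        exact Ideal.Quotient.eq_zero_iff_mem.2 ha
      rw [map_sub, RingHom.mem_ker.1 hx, zero_sub, neg_eq_zero, ← RingHom.comp_apply, hev,
        Ideal.Quotient.eq_zero_iff_mem] at hc0
      have h3 := Ideal.add_mem _ hc (Ideal.mem_map_of_mem (algebraMap A Ah) hc0)
      rwa [sub_add_cancel] at h3
    · rw [Ideal.mem_comap, RingHom.mem_ker, ← RingHom.comp_apply, hev]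
      exact Ideal.Quotient.eq_zero_iff_mem.2 ha
  have hsurj : Function.Surjective ev := fun z => by
    obtain ⟨a, rfl⟩ := Ideal.Quotient.mk_surjective z
    exact ⟨algebraMap A Ah a, RingHom.congr_fun hev a⟩
  have hjac : RingHom.ker ev ≤ Ideal.jacobson ⊥ := hker ▸ IsAdicComplete.le_jacobson_bot _
  have hlocal : ∀ x, IsUnit (ev x) → IsUnit x := fun x hx => by
    obtain ⟨y, hy⟩ := hx.exists_right_inv
    obtain ⟨y, rfl⟩ := hsurj y
    have : x * y - 1 ∈ RingHom.ker ev := by rw [RingHom.mem_ker, map_sub, map_mul, hy, map_one, sub_self]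
    have h2 := Ideal.mem_jacobson_bot.1 (hjac this) 1
    rw [mul_one, sub_add_cancel] at h2
    exact isUnit_of_mul_isUnit_left h2
  have hu : ∀ t : T, IsUnit (algebraMap A Ah t) := fun t => hlocal _ (by
    rw [← RingHom.comp_apply, hev, show Ideal.Quotient.mk J (t : A) = 1 from by
      rw [← map_one (Ideal.Quotient.mk J), Ideal.Quotient.eq]; exact (hmem _).1 t.2]
    exact isUnit_one)
  letI : Algebra L Ah := (IsLocalization.lift (M := T) (S := L) hu).toAlgebra
  haveI : IsScalarTower A L Ah := IsScalarTower.of_algebraMap_eq fun a => (IsLocalization.lift_eq hu a).symm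
  haveI : Module.Flat L Ah := (Module.flat_iff_of_isLocalization L T Ah).2 inferInstance
  let ψ : L →+* A ⧸ J := ev.comp (algebraMap L Ah)
  have hψ : ∀ a : A, ψ (algebraMap A L a) = Ideal.Quotient.mk J a := fun a => by
    show ev (algebraMap L Ah (algebraMap A L a)) = _
    rw [← IsScalarTower.algebraMap_apply, ← hev]
    rfl
  have hψu : ∀ z : L, IsUnit (ψ z) → IsUnit z := by
    intro z hz
    obtain ⟨y, hy⟩ := hz.exists_right_inv
    obtain ⟨c, rfl⟩ := Ideal.Quotient.mk_surjective y
    obtain ⟨⟨a, t⟩, hat⟩ := IsLocalization.surj T z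
    have ht1 : Ideal.Quotient.mk J (t : A) = 1 := by
      rw [← map_one (Ideal.Quotient.mk J), Ideal.Quotient.eq]; exact (hmem _).1 t.2
    have h1 : ψ z = Ideal.Quotient.mk J a := by
      have := congrArg ψ hat
      rwa [map_mul, hψ, hψ, ht1, mul_one] at this
    have hT' : a * c ∈ T := (hmem _).2 (by
      rw [← Ideal.Quotient.eq, map_one, map_mul, ← h1]; exact hy)
    have h2 : IsUnit (algebraMap A L a) :=
      isUnit_of_mul_isUnit_left (y := algebraMap A L c) (by rw [← map_mul]; exact IsLocalization.map_units L ⟨_, hT'⟩)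
    rw [← hat] at h2
    exact isUnit_of_mul_isUnit_left h2
  have hψs : Function.Surjective ψ := fun z => by
    obtain ⟨a, rfl⟩ := Ideal.Quotient.mk_surjective z
    exact ⟨algebraMap A L a, hψ a⟩
  haveI : Module.FaithfullyFlat L Ah := by
    refine ⟨fun m hm hmt => ?_⟩
    have hle : m.map (algebraMap L Ah) ≤ (m.map ψ).comap ev := Ideal.map_le_iff_le_comap.2 fun z hz =>
      Ideal.mem_map_of_mem ψ hz
    have h1 : (1 : Ah) ∈ m.map (algebraMap L Ah) := by
      have : (1 : Ah) ∈ m • (⊤ : Submodule L Ah) := by rw [hmt]; trivial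
      rwa [Ideal.smul_top_eq_map] at this
    have h2 := hle h1
    rw [Ideal.mem_comap, map_one] at h2
    obtain ⟨z, hz, hz1⟩ := (Ideal.mem_map_iff_of_surjective ψ hψs).1 h2
    exact hm.ne_top (Ideal.eq_top_of_isUnit_mem _ hz (hψu z (hz1 ▸ isUnit_one)))
  haveI : Nontrivial (A ⧸ J) := Ideal.Quotient.nontrivial_iff.2 hJ
  haveI : Nontrivial Ah := ev.domain_nontrivial
  rw [Groth.Agent.SchFinLib.connectedSpace_iff_idempotent]
  constructor
  · rintro ⟨hd, hi⟩
    haveI := hd
    haveI := hi
    refine ⟨isDomain_isIntegrallyClosed_of_faithfullyFlat L Ah, inferInstance, fun e he => ?_⟩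
    obtain ⟨a, rfl⟩ := hsurj e
    let P : Polynomial Ah := Polynomial.X * (Polynomial.X - Polynomial.C 1)
    have hP : P.Monic := Polynomial.monic_X.mul (Polynomial.monic_X_sub_C 1)
    have hdd : ev (2 * a - 1) * ev (2 * a - 1) = 1 := by
      rw [map_sub, map_mul, map_ofNat, map_one]
      linear_combination (4 : A ⧸ J) * he.eq
    obtain ⟨b, hb, hba⟩ := HenselianRing.is_henselian (I := J.map (algebraMap A Ah)) P hP a
      (by
        rw [← hker, RingHom.mem_ker]
        simp [P, mul_sub, he.eq])
      (by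
        refine ((hlocal _ ?_).map _)
        simp only [P, Polynomial.derivative_mul, Polynomial.derivative_X, Polynomial.derivative_sub,
          Polynomial.derivative_C, Polynomial.eval_add, Polynomial.eval_mul, Polynomial.eval_sub, Polynomial.eval_X,
          Polynomial.eval_C, Polynomial.eval_one, sub_zero, one_mul, mul_one]
        rw [show a - 1 + a = 2 * a - 1 by ring]
        exact IsUnit.of_mul_eq_one _ hdd)
    have hab : ev a = ev b := by
      rw [← sub_eq_zero, ← map_sub]
      exact RingHom.mem_ker.1 (hker ▸ by simpa using (J.map (algebraMap A Ah)).neg_mem hba)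
    have hb0 : b * (b - 1) = 0 := by simpa [P] using hb
    rcases mul_eq_zero.1 hb0 with h | h
    · exact Or.inl (by rw [hab, h, map_zero])
    · exact Or.inr (by rw [hab, sub_eq_zero.1 h, map_one])
  · rintro ⟨⟨hd, hi⟩, -, hconn⟩
    haveI := hd
    haveI := hi
    have hAh : IsNormalRing Ah := by
      haveI : IsLocalization (Algebra.algebraMapSubmonoid Ah T) (Ah ⊗[A] L) := IsLocalization.tensor L T
      have hle : Algebra.algebraMapSubmonoid Ah T ≤ IsUnit.submonoid Ah := by
        rintro _ ⟨t, ht, rfl⟩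
        exact hu ⟨t, ht⟩
      exact GeomRedFibLib.isNormalRing_of_ringEquiv _ _
        (IsLocalization.atUnits Ah (Algebra.algebraMapSubmonoid Ah T) (S := Ah ⊗[A] L) hle).toRingEquiv.symm
        (GeomRedFibLib.isNormalRing_bc A Ah hf L (isNormalRing_of_intClosed L))
    refine domain_of_isNormalRing_of_trivIdem Ah hAh fun e he => ?_
    rcases hconn _ (he.map ev) with h | h
    · left
      have hu' := Ideal.mem_jacobson_bot.1 (hjac (RingHom.mem_ker.2 h)) (-1)
      refine IsUnit.mul_right_eq_zero hu' |>.1 ?_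
      linear_combination -he.eq
    · right
      refine IsUnit.mul_left_cancel (hlocal e (h ▸ isUnit_one)) ?_
      rw [he.eq, mul_one]

end NorLocLib
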